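import Groth.Agent.H8.PIDescent.Basic

/-! # Representability descends along integral, flat, universally injective affine covers -/

set_option autoImplicit false
set_option linter.style.haveILetI false
set_option backward.isDefEq.respectTransparency false
set_option backward.isDefEq.respectTransparency.types false

universe u

open CategoryTheory CategoryTheory.Limits AlgebraicGeometry Topology
open AlgSp Groth.Agent.Lib
open Groth.Agent.H8.PIDescent.Basic (injective_map)

namespace Groth.Agent.H8.PIDescent.General

variable {S : Scheme.{u}}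

/-- A space over an affine scheme is a scheme if its base change along an integral, flat, universally
injective surjection from an affine scheme is one. -/
theorem isRepresentable_of_pullback {b EK : Over S} [IsAffine b.left] [IsAffine EK.left]
    (c : EK ⟶ b) (hint : IsIntegralHom c.left) (hui : UniversallyInjective c.left)
    (hflat : Flat c.left) (hsurj : Surjective c.left) {X P' : Sp S} (hX : IsAlgSpace X)
    {q : X ⟶ (yon S).obj b} {π : P' ⟶ X} {qK : P' ⟶ (yon S).obj EK}
    (sqb : IsPullback π qK q ((yon S).map c)) (h : P'.obj.IsRepresentable) :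
    X.obj.IsRepresentable := by
  have hπi : RepWith @IsIntegralHom π :=
    AlgSpace.repWith_baseChange sqb.flip ((AlgSp.repWith_yon_map_iff _ c).2 hint)
  have hπu : RepWith @UniversallyInjective π :=
    AlgSpace.repWith_baseChange sqb.flip ((AlgSp.repWith_yon_map_iff _ c).2 hui)
  have hπs : RepWith @Surjective π :=
    AlgSpace.repWith_baseChange sqb.flip ((AlgSp.repWith_yon_map_iff _ c).2 hsurj)
  have hcl : IsClosedMap (Points.map π) := AlgSpNormCover.isClosedMap_map hX hπi
  have hinj := injective_map hπu
  have hsur := AlgSpace.surjective_map hπs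
  obtain ⟨M, ⟨r⟩⟩ := h.has_representation
  let e := AlgSp.isoOfRepresentableBy r
  have key : ∀ x : Points X, ∃ (W : Over S) (f : (yon S).obj W ⟶ X),
      RepWith @IsOpenImmersion f ∧ x ∈ Set.range (Points.map f) := fun x => by
    obtain ⟨z, rfl⟩ := hsur x
    let m : M.left := Points.toScheme M (Points.map e.inv z)
    have hm : Points.ofPt e.hom m = z := by
      rw [Points.ofPt_eq_map_ofScheme, Points.ofScheme_toScheme, ← Points.map_comp, e.inv_hom_id,
        Points.map_id]
    obtain ⟨_, ⟨N, hN, rfl⟩, hmN, -⟩ :=
      M.left.isBasis_affineOpens.exists_subset_of_mem_open (Set.mem_univ m) isOpen_univ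
    change M.left.Opens at N
    let NO : Over S := Over.mk (N.ι ≫ M.hom)
    let w : NO ⟶ M := Over.homMk N.ι rfl
    let n : (yon S).obj NO ⟶ P' := (yon S).map w ≫ e.hom
    have hn : RepWith @IsOpenImmersion n := AlgSpace.repWith_yon_map_comp
      (inferInstanceAs (IsOpenImmersion N.ι)) (AlgSpace.repWith_of_isIso _ e.hom)
    have hW : IsOpen (Points.map π '' Set.range (Points.map n)) := by
      have := hcl _ (AlgSpace.isOpenEmbedding_map hn).isOpen_range.isClosed_compl
      rw [Set.image_compl_eq ⟨hinj, hsur⟩] at this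
      exact isClosed_compl_iff.1 this
    obtain ⟨V, j, hV, hj, hr⟩ := AlgSpace.exists_open_subspace hX hW
    have sqV : IsPullback (pullback.fst π j) (pullback.snd π j) π j := IsPullback.of_hasPullback _ _
    have hjP : RepWith @IsOpenImmersion (pullback.fst π j) := AlgSpace.repWith_baseChange sqV.flip hj
    have hrange : Set.range (Points.map (pullback.fst π j)) = Set.range (Points.map n) := by
      ext p
      constructor
      · rintro ⟨q, rfl⟩
        obtain ⟨p', hp', ep⟩ := hr.le ⟨Points.map (pullback.snd π j) q, rfl⟩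
        rw [← Points.map_comp, ← sqV.w, Points.map_comp] at ep
        exact hinj ep ▸ hp'
      · intro hp
        obtain ⟨v, hv⟩ := hr.ge ⟨p, hp, rfl⟩
        obtain ⟨q, hq, -⟩ := AlgSpace.exists_of_isPullback sqV p v hv.symm
        exact ⟨q, hq⟩
    obtain ⟨l, hl⟩ := (AlgSpace.exists_lift_iff_range_subset hn _).2 hrange.le
    obtain ⟨l', hl'⟩ := (AlgSpace.exists_lift_iff_range_subset hjP _).2 hrange.ge
    haveI : Mono n := AlgSpace.mono_of_repWith (P := @IsOpenImmersion)
      (fun _ _ g (_ : IsOpenImmersion g) ↦ (inferInstance : Mono g)) hn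
    haveI : Mono (pullback.fst π j) := AlgSpace.mono_of_repWith (P := @IsOpenImmersion)
      (fun _ _ g (_ : IsOpenImmersion g) ↦ (inferInstance : Mono g)) hjP
    let θ : pullback π j ≅ (yon S).obj NO := ⟨l, l',
      by rw [← cancel_mono (pullback.fst π j), Category.assoc, hl', hl, Category.id_comp],
      by rw [← cancel_mono n, Category.assoc, hl, hl', Category.id_comp]⟩
    have sq₁ : IsPullback (pullback.snd π j) (pullback.fst π j ≫ qK) (j ≫ q)
        ((yon S).map c) :=
      sqV.flip.paste_vert sqb
    obtain ⟨d, hd⟩ := (yon S).map_surjective (θ.inv ≫ pullback.fst π j ≫ qK)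
    have sq₂ : IsPullback (θ.inv ≫ pullback.snd π j) ((yon S).map d) (j ≫ q)
        ((yon S).map c) :=
      sq₁.of_iso θ (Iso.refl _) (Iso.refl _) (Iso.refl _) (by simp) (by rw [hd]; simp) (by simp)
        (by simp)
    haveI : IsAffine NO.left := hN
    have haff : IsAffineMor ((yon S).map d) := AlgSpMor.AffineDescent.isAffineMor_iff.2
      ((AlgSp.repWith_yon_map_iff _ _).2 (isAffineHom_of_isAffine d.left))
    have hcov : IsFpqcCover (fun _ : PUnit.{u + 1} => (yon S).obj EK) (fun _ => (yon S).map c) := by
      refine ⟨fun _ => AlgSpMor.LocP.locP_of_repWith SourceDescent.Scheme.flat ((AlgSp.repWith_yon_map_iff @Flat c).2 hflat), fun Z hZ h => ?_⟩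
      haveI := hZ
      obtain ⟨g, rfl⟩ := (yon S).map_surjective h
      refine ⟨1, fun _ => pullback g c, fun _ => pullback.fst g c, fun _ => ?_, fun _ => ?_, ?_,
        fun _ => ⟨PUnit.unit, (yon S).map (pullback.snd g c), by
          rw [← Functor.map_comp, ← Functor.map_comp, pullback.condition]⟩⟩
      all_goals have sqL := (IsPullback.of_hasPullback g c).map (Over.forget S)
      · haveI : IsAffineHom c.left := isAffineHom_of_isAffine _
        haveI : IsAffineHom (pullback.fst g c).left := MorphismProperty.of_isPullback sqL.flip ‹_›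
        exact isAffine_of_isAffineHom (pullback.fst g c).left
      · exact MorphismProperty.of_isPullback (P := @Flat) sqL.flip hflat
      · intro z
        haveI : Surjective (pullback.fst g c).left :=
          MorphismProperty.of_isPullback (P := @Surjective) sqL.flip hsurj
        exact ⟨0, (pullback.fst g c).left.surjective z⟩
    have haff' : IsAffineMor (j ≫ q) :=
      (AlgSpFpqc.Classes.isLocalOnBase_congr (fun _ _ _ _ _ => AlgSpMor.AffineDescent.isAffineMor_iff)
        (AlgSpFpqc.Affine.isLocalOnBase_repWith _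
          (fun _ _ g (_ : IsAffineHom g) => AlgSpMor.RepDescent.isQuasiAffine_of_isAffineHom g)))
        (fun _ : PUnit.{u + 1} => (yon S).obj EK) (fun _ => (yon S).map c)
        (IsAlgSpace.yon_obj b) (fun _ => IsAlgSpace.yon_obj EK) hcov (j ≫ q) hV
        (fun _ => (yon S).obj NO) (fun _ => (yon S).map d) (fun _ => θ.inv ≫ pullback.snd π j)
        (fun _ => IsAlgSpace.yon_obj NO) (fun _ => sq₂) |>.2 fun _ => haff
    obtain ⟨W, i, f, sqW, -⟩ := haff' (Z := b) ‹IsAffine b.left›
      (𝟙 _)
    haveI : IsIso f := sqW.isIso_fst_of_isIso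
    refine ⟨W, f ≫ j, (AlgSpace.repWith_iso_comp_iff _ f j).2 hj, ?_⟩
    obtain ⟨v, hv⟩ := hr.ge ⟨z, ⟨Points.ofScheme NO (⟨m, hmN⟩ : N.toScheme), by
      rw [← Points.ofPt_eq_map_ofScheme]
      exact (AlgSpace.ofPt_yon_map_comp w e.hom (⟨m, hmN⟩ : N.toScheme)).trans hm⟩, rfl⟩
    exact ⟨Points.map (inv f) v, by rw [← Points.map_comp, IsIso.inv_hom_id_assoc]; exact hv⟩
  obtain ⟨U, a, -, has⟩ := hX.atlas
  choose W f hf hmem using fun u : U.left => key (Points.ofPt a u)
  obtain ⟨G, φ, -, hφ, -⟩ := UnivThick.OpenCover.exists_scheme_iso (f := f) hf (fun T g t => by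
    obtain ⟨u, hu⟩ := AlgSpace.surjective_ofPt has (Points.ofPt g t)
    refine ⟨u, ?_⟩
    have h0 : t ∈ Points.ofPt g ⁻¹' (Points.map (f u) '' Set.univ) := by
      rw [Set.image_univ]
      show Points.ofPt g t ∈ Set.range (Points.map (f u))
      rw [← hu]
      exact hmem u
    rw [AlgSpace.preimage_image_map ((hf u).1.isPullback g)] at h0
    exact Set.image_subset_range _ _ h0)
  exact AlgSpDecent.OpenScheme.isRepresentable_of_iso (@asIso _ _ _ _ φ hφ)

end Groth.Agent.H8.PIDescent.General
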