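import Groth.Agent.Lib.AlgSpace.OpenSubExists
import Groth.Agent.Lib.AlgSpDecent.OpenScheme
import Groth.Agent.Lib.AlgSpNormCover.Restrict
import Groth.Agent.Lib.AlgSpFpqc.Affine
import Groth.Agent.Lib.UnivThick.OpenCover
import Mathlib.AlgebraicGeometry.Morphisms.UniversallyInjective
import Mathlib.FieldTheory.PurelyInseparable.Basic

/-! # Descent of representability along purely inseparable field extensions -/

set_option autoImplicit false
set_option linter.style.haveILetI false
set_option backward.isDefEq.respectTransparency false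
set_option backward.isDefEq.respectTransparency.types false

universe u

open CategoryTheory CategoryTheory.Limits AlgebraicGeometry Topology
open AlgSp Groth.Agent.Lib

namespace Groth.Agent.H8.PIDescent.Basic

/-- `Spec` of a purely inseparable extension is universally injective. -/
theorem universallyInjective_specMap (k K : Type u) [Field k] [Field K] [Algebra k K]
    [IsPurelyInseparable k K] :
    UniversallyInjective (Spec.map (CommRingCat.ofHom (algebraMap k K))) := by
  refine ((tfae_universallyInjective _).out 0 1).2 ?_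
  intro L _ g g' h
  obtain ⟨φ, rfl⟩ := Spec.map_surjective g
  obtain ⟨φ', rfl⟩ := Spec.map_surjective g'
  have h' := Spec.map_injective ((Spec.map_comp _ _).trans (h.trans (Spec.map_comp _ _).symm))
  congr 1
  refine CommRingCat.hom_ext (IsPurelyInseparable.injective_comp_algebraMap k K L ?_)
  exact congrArg CommRingCat.Hom.hom h'

variable {S : Scheme.{u}}

/-- Representable universally injective maps are injective on points. -/
theorem injective_map {X Y : Sp S} {f : X ⟶ Y} (hf : RepWith @UniversallyInjective f) :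
    Function.Injective (Points.map f) := by
  intro x y e
  obtain ⟨T, a, t, ht⟩ := AlgSpace.exists_ofPt_eq (Points.map f x)
  obtain ⟨V, v, fst, sq, hv⟩ := AlgSpace.repWith_exists hf a
  have key : ∀ z : Points X, Points.map f z = Points.ofPt a t →
      ∃ w : V.left, Points.ofPt fst w = z ∧ v.left w = t := fun z hz => by
    obtain ⟨w, h1, h2⟩ := AlgSpace.exists_of_isPullback sq z (Points.ofScheme T t)
      (by rw [← Points.ofPt_eq_map_ofScheme]; exact hz)
    refine ⟨Points.toScheme V w, ?_, ?_⟩
    · rw [Points.ofPt_eq_map_ofScheme, Points.ofScheme_toScheme, h1]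
    · rw [← Points.toScheme_ofPt v, Points.ofPt_eq_map_ofScheme, Points.ofScheme_toScheme, h2,
        Points.toScheme_ofScheme]
  obtain ⟨w, rfl, hw⟩ := key x ht.symm
  obtain ⟨w', rfl, hw'⟩ := key y (e.symm.trans ht.symm)
  haveI : UniversallyInjective v.left := hv
  rw [v.left.injective (hw.trans hw'.symm)]

/-- An algebraic space over a field is a scheme if its base change along a purely inseparable
extension is one. -/
theorem isRepresentable_of_bc {k : Type u} [Field k] {X : Sp (Spec (CommRingCat.of k))}
    (hX : IsAlgSpace X) (K : Type u) [Field K] [Algebra k K] [IsPurelyInseparable k K]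
    (h : (X ⨯ (yon _).obj (Over.mk (Spec.map (CommRingCat.ofHom (algebraMap k K))))).obj.IsRepresentable) :
    X.obj.IsRepresentable := by
  let b : Over (Spec (CommRingCat.of k)) := Over.mk (𝟙 (Spec (CommRingCat.of k)))
  let EK : Over (Spec (CommRingCat.of k)) := Over.mk (Spec.map (CommRingCat.ofHom (algebraMap k K)))
  let c : EK ⟶ b := Over.homMk EK.hom (Category.comp_id _)
  have hb : IsTerminal ((yon (Spec (CommRingCat.of k))).obj b) := Over.mkIdTerminal.isTerminalObj (yon (Spec (CommRingCat.of k)))
  have sqb : IsPullback (prod.fst : X ⨯ (yon (Spec (CommRingCat.of k))).obj EK ⟶ X) prod.snd (hb.from X) ((yon (Spec (CommRingCat.of k))).map c) :=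
    AlgSpace.isPullback_of_yon (hb.hom_ext _ _) (fun U p q h1 h2 ↦ prod.hom_ext h1 h2)
      fun U p q _ ↦ ⟨prod.lift p q, prod.lift_fst _ _, prod.lift_snd _ _⟩
  let hrep : ∀ (P : MorphismProperty Scheme.{u}) [P.IsStableUnderBaseChange],
      P (Spec.map (CommRingCat.ofHom (algebraMap k K))) → RepWith P ((yon (Spec (CommRingCat.of k))).map c) :=
    fun P _ hP => (AlgSp.repWith_yon_map_iff P c).2 hP
  let π : X ⨯ (yon (Spec (CommRingCat.of k))).obj EK ⟶ X := prod.fst
  have hπi : RepWith @IsIntegralHom π := AlgSpace.repWith_baseChange sqb.flip (hrep _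
    (IsIntegralHom.SpecMap_iff.2 (fun x => Algebra.IsIntegral.isIntegral (R := k) x)))
  have hπu : RepWith @UniversallyInjective π :=
    AlgSpace.repWith_baseChange sqb.flip (hrep _ (universallyInjective_specMap k K))
  have hflatc : Flat (Spec.map (CommRingCat.ofHom (algebraMap k K))) :=
    (HasRingHomProperty.Spec_iff (P := @Flat)).2 (RingHom.flat_algebraMap_iff.2 inferInstance)
  have hsurjc : Surjective (Spec.map (CommRingCat.ofHom (algebraMap k K))) :=
    ⟨fun x => ⟨IsLocalRing.closedPoint K, Subsingleton.elim _ _⟩⟩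
  have hπs : RepWith @Surjective π := AlgSpace.repWith_baseChange sqb.flip (hrep _ hsurjc)
  have hcl : IsClosedMap (Points.map π) := AlgSpNormCover.isClosedMap_map hX hπi
  have hinj := injective_map hπu
  have hsur := AlgSpace.surjective_map hπs
  obtain ⟨M, ⟨r⟩⟩ := h.has_representation
  let e := AlgSp.isoOfRepresentableBy r
  have key : ∀ x : Points X, ∃ (W : Over (Spec (CommRingCat.of k))) (f : (yon (Spec (CommRingCat.of k))).obj W ⟶ X),
      RepWith @IsOpenImmersion f ∧ x ∈ Set.range (Points.map f) := fun x => by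
    obtain ⟨z, rfl⟩ := hsur x
    let m : M.left := Points.toScheme M (Points.map e.inv z)
    have hm : Points.ofPt e.hom m = z := by
      rw [Points.ofPt_eq_map_ofScheme, Points.ofScheme_toScheme, ← Points.map_comp, e.inv_hom_id,
        Points.map_id]
    obtain ⟨_, ⟨N, hN, rfl⟩, hmN, -⟩ :=
      M.left.isBasis_affineOpens.exists_subset_of_mem_open (Set.mem_univ m) isOpen_univ
    change M.left.Opens at N
    let NO : Over (Spec (CommRingCat.of k)) := Over.mk (N.ι ≫ M.hom)
    let w : NO ⟶ M := Over.homMk N.ι rfl
    let n : (yon (Spec (CommRingCat.of k))).obj NO ⟶ X ⨯ (yon (Spec (CommRingCat.of k))).obj EK := (yon (Spec (CommRingCat.of k))).map w ≫ e.hom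
    have hn : RepWith @IsOpenImmersion n := AlgSpace.repWith_yon_map_comp
      (inferInstanceAs (IsOpenImmersion N.ι)) (AlgSpace.repWith_of_isIso _ e.hom)
    have hW : IsOpen (Points.map π '' Set.range (Points.map n)) := by
      have := hcl _ (AlgSpace.isOpenEmbedding_map hn).isOpen_range.isClosed_compl
      rw [Set.image_compl_eq ⟨hinj, hsur⟩] at this
      exact isClosed_compl_iff.1 this
    obtain ⟨V, j, hV, hj, hr⟩ := AlgSpace.exists_open_subspace hX hW
    have sqV : IsPullback (pullback.fst π j) (pullback.snd π j) π j := IsPullback.of_hasPullback _ _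
    have hjP : RepWith @IsOpenImmersion (pullback.fst π j) := AlgSpace.repWith_baseChange sqV.flip hj
    have hrange : Set.range (Points.map (pullback.fst π j)) = Set.range (Points.map n) := by
      ext p
      constructor
      · rintro ⟨q, rfl⟩
        obtain ⟨p', hp', ep⟩ := hr.le ⟨Points.map (pullback.snd π j) q, rfl⟩
        rw [← Points.map_comp, ← sqV.w, Points.map_comp] at ep
        exact hinj ep ▸ hp'
      · intro hp
        obtain ⟨v, hv⟩ := hr.ge ⟨p, hp, rfl⟩
        obtain ⟨q, hq, -⟩ := AlgSpace.exists_of_isPullback sqV p v hv.symm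
        exact ⟨q, hq⟩
    obtain ⟨l, hl⟩ := (AlgSpace.exists_lift_iff_range_subset hn _).2 hrange.le
    obtain ⟨l', hl'⟩ := (AlgSpace.exists_lift_iff_range_subset hjP _).2 hrange.ge
    haveI : Mono n := AlgSpace.mono_of_repWith (P := @IsOpenImmersion)
      (fun _ _ g (_ : IsOpenImmersion g) ↦ (inferInstance : Mono g)) hn
    haveI : Mono (pullback.fst π j) := AlgSpace.mono_of_repWith (P := @IsOpenImmersion)
      (fun _ _ g (_ : IsOpenImmersion g) ↦ (inferInstance : Mono g)) hjP
    let θ : pullback π j ≅ (yon (Spec (CommRingCat.of k))).obj NO := ⟨l, l',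
      by rw [← cancel_mono (pullback.fst π j), Category.assoc, hl', hl, Category.id_comp],
      by rw [← cancel_mono n, Category.assoc, hl, hl', Category.id_comp]⟩
    have sq₁ : IsPullback (pullback.snd π j) (pullback.fst π j ≫ prod.snd) (j ≫ hb.from X)
        ((yon (Spec (CommRingCat.of k))).map c) :=
      sqV.flip.paste_vert sqb
    obtain ⟨d, hd⟩ := (yon (Spec (CommRingCat.of k))).map_surjective (θ.inv ≫ pullback.fst π j ≫ prod.snd)
    have sq₂ : IsPullback (θ.inv ≫ pullback.snd π j) ((yon (Spec (CommRingCat.of k))).map d) (j ≫ hb.from X)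
        ((yon (Spec (CommRingCat.of k))).map c) :=
      sq₁.of_iso θ (Iso.refl _) (Iso.refl _) (Iso.refl _) (by simp) (by rw [hd]; simp) (by simp)
        (by simp)
    haveI : IsAffine NO.left := hN
    haveI : IsAffine EK.left := inferInstanceAs (IsAffine (Spec (CommRingCat.of K)))
    have haff : IsAffineMor ((yon (Spec (CommRingCat.of k))).map d) := AlgSpMor.AffineDescent.isAffineMor_iff.2
      ((AlgSp.repWith_yon_map_iff _ _).2 (isAffineHom_of_isAffine d.left))
    have hcov : IsFpqcCover (fun _ : PUnit.{u + 1} => (yon (Spec (CommRingCat.of k))).obj EK) (fun _ => (yon (Spec (CommRingCat.of k))).map c) := by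
      refine ⟨fun _ => AlgSpMor.LocP.locP_of_repWith SourceDescent.Scheme.flat (hrep _
        hflatc), fun Z hZ h => ?_⟩
      haveI := hZ
      obtain ⟨g, rfl⟩ := (yon (Spec (CommRingCat.of k))).map_surjective h
      refine ⟨1, fun _ => pullback g c, fun _ => pullback.fst g c, fun _ => ?_, fun _ => ?_, ?_,
        fun _ => ⟨PUnit.unit, (yon (Spec (CommRingCat.of k))).map (pullback.snd g c), by
          rw [← Functor.map_comp, ← Functor.map_comp, pullback.condition]⟩⟩
      all_goals have sqL := (IsPullback.of_hasPullback g c).map (Over.forget (Spec (CommRingCat.of k)))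
      all_goals haveI : IsAffine b.left := inferInstanceAs (IsAffine (Spec (CommRingCat.of k)))
      · haveI : IsAffineHom c.left := isAffineHom_of_isAffine _
        haveI : IsAffineHom (pullback.fst g c).left := MorphismProperty.of_isPullback sqL.flip ‹_›
        exact isAffine_of_isAffineHom (pullback.fst g c).left
      · exact MorphismProperty.of_isPullback (P := @Flat) sqL.flip hflatc
      · intro z
        haveI : Surjective (pullback.fst g c).left :=
          MorphismProperty.of_isPullback (P := @Surjective) sqL.flip hsurjc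
        exact ⟨0, (pullback.fst g c).left.surjective z⟩
    have haff' : IsAffineMor (j ≫ hb.from X) :=
      (AlgSpFpqc.Classes.isLocalOnBase_congr (fun _ _ _ _ _ => AlgSpMor.AffineDescent.isAffineMor_iff)
        (AlgSpFpqc.Affine.isLocalOnBase_repWith _
          (fun _ _ g (_ : IsAffineHom g) => AlgSpMor.RepDescent.isQuasiAffine_of_isAffineHom g)))
        (fun _ : PUnit.{u + 1} => (yon (Spec (CommRingCat.of k))).obj EK) (fun _ => (yon (Spec (CommRingCat.of k))).map c)
        (IsAlgSpace.yon_obj b) (fun _ => IsAlgSpace.yon_obj EK) hcov (j ≫ hb.from X) hV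
        (fun _ => (yon (Spec (CommRingCat.of k))).obj NO) (fun _ => (yon (Spec (CommRingCat.of k))).map d) (fun _ => θ.inv ≫ pullback.snd π j)
        (fun _ => IsAlgSpace.yon_obj NO) (fun _ => sq₂) |>.2 fun _ => haff
    obtain ⟨W, i, f, sqW, -⟩ := haff' (Z := b) (inferInstanceAs (IsAffine (Spec (CommRingCat.of k))))
      (𝟙 _)
    haveI : IsIso f := sqW.isIso_fst_of_isIso
    refine ⟨W, f ≫ j, (AlgSpace.repWith_iso_comp_iff _ f j).2 hj, ?_⟩
    obtain ⟨v, hv⟩ := hr.ge ⟨z, ⟨Points.ofScheme NO (⟨m, hmN⟩ : N.toScheme), by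
      rw [← Points.ofPt_eq_map_ofScheme]
      exact (AlgSpace.ofPt_yon_map_comp w e.hom (⟨m, hmN⟩ : N.toScheme)).trans hm⟩, rfl⟩
    exact ⟨Points.map (inv f) v, by rw [← Points.map_comp, IsIso.inv_hom_id_assoc]; exact hv⟩
  obtain ⟨U, a, -, has⟩ := hX.atlas
  choose W f hf hmem using fun u : U.left => key (Points.ofPt a u)
  obtain ⟨G, φ, -, hφ, -⟩ := UnivThick.OpenCover.exists_scheme_iso (f := f) hf (fun T g t => by
    obtain ⟨u, hu⟩ := AlgSpace.surjective_ofPt has (Points.ofPt g t)
    refine ⟨u, ?_⟩
    have h0 : t ∈ Points.ofPt g ⁻¹' (Points.map (f u) '' Set.univ) := by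
      rw [Set.image_univ]
      show Points.ofPt g t ∈ Set.range (Points.map (f u))
      rw [← hu]
      exact hmem u
    rw [AlgSpace.preimage_image_map ((hf u).1.isPullback g)] at h0
    exact Set.image_subset_range _ _ h0)
  exact AlgSpDecent.OpenScheme.isRepresentable_of_iso (@asIso _ _ _ _ φ hφ)

end Groth.Agent.H8.PIDescent.Basic
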